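import Cfsg.Agent.H960.HTP.Gen

/-!
# S3512: Frobenius groups with complement of order `p` (helper960)

`R` a `p'`-group of linear maps normalised by `u`, `u ^ p = 1`, no element `≠ 1` of `R` commuting with `u`:
the sum `W` of the non-trivial `R`-submodules is free over `⟨u⟩`.
-/

set_option autoImplicit false
set_option linter.unusedSectionVars false
set_option linter.unusedVariables false
set_option linter.style.haveILetI false

namespace Cfsg.Agent.H960.HTP

open MulAction Subgroup Cfsg.Agent.H828.HT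

universe u v

section lin

variable {p : ℕ} [Fact p.Prime] {V : Type u} [AddCommGroup V] [Module (ZMod p) V] [Finite V]

/-- image and kernel -/
theorem card_map_ker (X : Submodule (ZMod p) V) (D : V →ₗ[ZMod p] V) :
    Nat.card X = Nat.card (X.map D) * Nat.card (X ⊓ LinearMap.ker D : Submodule (ZMod p) V) := by
  classical
  have h1 := Submodule.card_eq_card_quotient_mul_card (LinearMap.ker (D.domRestrict X))
  have h2 : Nat.card (X ⧸ LinearMap.ker (D.domRestrict X)) = Nat.card (X.map D) := by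
    have h3 := Nat.card_congr (LinearMap.quotKerEquivRange (D.domRestrict X)).toEquiv
    rw [h3, LinearMap.range_domRestrict]
  have h4 : Nat.card (LinearMap.ker (D.domRestrict X)) = Nat.card (X ⊓ LinearMap.ker D : Submodule (ZMod p) V) := by
    refine Nat.card_congr
      { toFun := fun x => ⟨x.1.1, x.1.2, x.2⟩
        invFun := fun x => ⟨⟨x.1, x.2.1⟩, x.2.2⟩
        left_inv := fun _ => rfl
        right_inv := fun _ => rfl }
  rw [h1, h2, h4, mul_comm]

/-- `D ^ p = 0` on `W` and `ker D ⊆ D ^ (p-1) W`: `|W| = |ker D| ^ p` -/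
theorem card_free {W : Submodule (ZMod p) V} {D : V →ₗ[ZMod p] V} (hD : ∀ v ∈ W, D v ∈ W) {n : ℕ}
    (h0 : ∀ v ∈ W, (D ^ n) v = 0) (h1 : ∀ v ∈ W, D v = 0 → ∃ w ∈ W, (D ^ (n - 1)) w = v) :
    Nat.card W = Nat.card (W ⊓ LinearMap.ker D : Submodule (ZMod p) V) ^ n := by
  classical
  have hDi : ∀ i, ∀ v ∈ W, (D ^ i) v ∈ W := by
    intro i
    induction i with
    | zero => intro v hv; exact hv
    | succ i ih =>
      intro v hv
      rw [pow_succ']
      exact hD _ (ih v hv)
  have key : ∀ i, i ≤ n → Nat.card W = Nat.card (W.map (D ^ i)) *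
      Nat.card (W ⊓ LinearMap.ker D : Submodule (ZMod p) V) ^ i := by
    intro i
    induction i with
    | zero =>
      intro _
      rw [pow_zero, pow_zero, mul_one]
      have : W.map (1 : V →ₗ[ZMod p] V) = W := by
        change W.map LinearMap.id = W
        rw [Submodule.map_id]
      rw [this]
    | succ i ih =>
      intro hi
      rw [ih (by omega), card_map_ker (W.map (D ^ i)) D]
      have e1 : (W.map (D ^ i)).map D = W.map (D ^ (i + 1)) := by
        rw [← Submodule.map_comp, pow_succ']; rfl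
      have e2 : (W.map (D ^ i) ⊓ LinearMap.ker D : Submodule (ZMod p) V) = W ⊓ LinearMap.ker D := by
        apply le_antisymm
        · refine inf_le_inf_right _ ?_
          rintro _ ⟨w, hw, rfl⟩
          exact hDi i w hw
        · rintro v ⟨hv, hk⟩
          refine ⟨?_, hk⟩
          obtain ⟨w, hw, h2⟩ := h1 v hv hk
          refine ⟨(D ^ (n - 1 - i)) w, hDi _ w hw, ?_⟩
          have : (D ^ i) ((D ^ (n - 1 - i)) w) = (D ^ (i + (n - 1 - i))) w := by
            rw [pow_add]; rfl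
          rw [this, show i + (n - 1 - i) = n - 1 by omega, h2]
      rw [e1, e2, pow_succ]
      ring
  have h2 := key n le_rfl
  have h3 : W.map (D ^ n) = ⊥ := by
    rw [eq_bot_iff]
    rintro _ ⟨w, hw, rfl⟩
    exact h0 w hw
  rw [h3] at h2
  simpa using h2

open Polynomial in
/-- `(X - 1) ^ (p - 1) = 1 + X + ... + X ^ (p - 1)` in characteristic `p` -/
theorem geom_eq (p : ℕ) [Fact p.Prime] :
    ((X : (ZMod p)[X]) - 1) ^ (p - 1) = ∑ i ∈ Finset.range p, (X : (ZMod p)[X]) ^ i := by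
  have h1 : ((X : (ZMod p)[X]) - 1) ≠ 0 := by
    have := X_sub_C_ne_zero (1 : ZMod p)
    rwa [map_one] at this
  apply mul_right_cancel₀ h1
  rw [geom_sum_mul, ← pow_succ, Nat.sub_add_cancel (Fact.out : p.Prime).one_lt.le, sub_pow_char, one_pow]

open Polynomial in
theorem pow_sub_one (f : Module.End (ZMod p) V) :
    (f - 1) ^ (p - 1) = ∑ i ∈ Finset.range p, f ^ i := by
  have h1 := congrArg (aeval f) (geom_eq p)
  simpa using h1

open Polynomial in
theorem pow_sub_one' (f : Module.End (ZMod p) V) (hf : f ^ p = 1) : (f - 1) ^ p = 0 := by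
  have h1 : ((X : (ZMod p)[X]) - 1) ^ p = X ^ p - 1 := by rw [sub_pow_char, one_pow]
  have h2 := congrArg (aeval f) h1
  simpa [hf] using h2

end lin

section frob

variable {p : ℕ} [Fact p.Prime] {V : Type u} [AddCommGroup V] [Module (ZMod p) V] [Finite V]

theorem coe_pow (u : V ≃ₗ[ZMod p] V) (i : ℕ) :
    ((u ^ i : V ≃ₗ[ZMod p] V) : V →ₗ[ZMod p] V) = (u : V →ₗ[ZMod p] V) ^ i := by
  induction i with
  | zero => rfl
  | succ i ih =>
    rw [pow_succ, pow_succ, ← ih]; rfl

theorem pow_mod_aux' {A : Type*} [Group A] {u : A} {p : ℕ} (h : u ^ p = 1) (n : ℕ) : u ^ (n % p) = u ^ n := by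
  conv_rhs => rw [← Nat.mod_add_div n p, pow_add, pow_mul, h, one_pow, mul_one]

/-- an orbit sum -/
theorem sum_orbits {R : Subgroup (V ≃ₗ[ZMod p] V)} {u : V ≃ₗ[ZMod p] V} (hup : u ^ p = 1)
    (hfix : ∀ r ∈ R, r ≠ 1 → u * r * u⁻¹ ≠ r) (W : Submodule (ZMod p) V)
    (hW : ∀ r ∈ R, ∀ v ∈ W, r v ∈ W) {v : V} (hv : v ∈ W) (huv : u v = v) :
    ∀ (n : ℕ) (s : Finset (V ≃ₗ[ZMod p] V)), s.card = n → (∀ r ∈ s, r ∈ R ∧ r ≠ 1) → (∀ r ∈ s, u * r * u⁻¹ ∈ s) →
      ∃ w ∈ W, ∑ r ∈ s, r v = ∑ i ∈ Finset.range p, (u ^ i) w := by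
  classical
  intro n
  induction n using Nat.strong_induction_on with
  | _ n ih =>
    intro s hs hsR hsu
    rcases s.eq_empty_or_nonempty with rfl | ⟨r, hr⟩
    · refine ⟨0, W.zero_mem, ?_⟩
      simp
    · -- the orbit of `r`
      have hpp : p.Prime := Fact.out
      have hconj : ∀ i : ℕ, u ^ i * r * (u ^ i)⁻¹ ∈ s := by
        intro i
        induction i with
        | zero => simpa using hr
        | succ i ih' =>
          have := hsu _ ih'
          have e : u * (u ^ i * r * (u ^ i)⁻¹) * u⁻¹ = u ^ (i + 1) * r * (u ^ (i + 1))⁻¹ := by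
            rw [pow_succ']; group
          rwa [e] at this
      let O : Finset (V ≃ₗ[ZMod p] V) := (Finset.range p).image fun i => u ^ i * r * (u ^ i)⁻¹
      have hinj : Set.InjOn (fun i => u ^ i * r * (u ^ i)⁻¹) (Finset.range p : Set ℕ) := by
        have aux : ∀ i j : ℕ, i < j → j < p → u ^ i * r * (u ^ i)⁻¹ ≠ u ^ j * r * (u ^ j)⁻¹ := by
          intro i j hij hjp he
          -- `u ^ (j - i)` commutes with `r`
          have h1 : u ^ (j - i) * r * (u ^ (j - i))⁻¹ = r := by
            have e1 : u ^ j = u ^ i * u ^ (j - i) := by rw [← pow_add]; congr 1; omega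
            have h2 : (u ^ i)⁻¹ * (u ^ j * r * (u ^ j)⁻¹) * u ^ i = r := by rw [← he]; group
            calc u ^ (j - i) * r * (u ^ (j - i))⁻¹
                = (u ^ i)⁻¹ * ((u ^ i * u ^ (j - i)) * r * (u ^ i * u ^ (j - i))⁻¹) * u ^ i := by group
              _ = r := by rw [← e1]; exact h2
          have h3 : Commute (u ^ (j - i)) r := by
            rw [commute_iff_eq]
            exact mul_inv_eq_iff_eq_mul.1 h1
          have hcop : Nat.Coprime (j - i) p :=
            Nat.Coprime.symm ((Nat.Prime.coprime_iff_not_dvd hpp).2 fun hd => by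
              have := Nat.le_of_dvd (by omega) hd
              omega)
          have h4 : Commute u r := by
            obtain ⟨k, -, hk⟩ := Nat.exists_mul_mod_eq_one_of_coprime hcop hpp.one_lt
            have h5 : (u ^ (j - i)) ^ k = u := by
              rw [← pow_mul]
              conv_rhs => rw [← pow_one u, ← hk]
              exact (pow_mod_aux' hup _).symm
            rw [← h5]
            exact h3.pow_left k
          refine hfix r (hsR r hr).1 (hsR r hr).2 ?_
          rw [h4.eq, mul_inv_cancel_right]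
        intro i hi j hj hij
        simp only [Finset.coe_range, Set.mem_Iio] at hi hj
        rcases lt_trichotomy i j with h | h | h
        · exact absurd hij (aux i j h hj)
        · exact h
        · exact absurd hij.symm (aux j i h hi)
      have hOs : O ⊆ s := by
        intro x hx
        obtain ⟨i, -, rfl⟩ := Finset.mem_image.1 hx
        exact hconj i
      have hrO : r ∈ O := Finset.mem_image.2 ⟨0, Finset.mem_range.2 hpp.pos, by simp⟩
      -- sum over the orbit
      have hvi : ∀ i : ℕ, (u ^ i)⁻¹ v = v := by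
        intro i
        have h1 : (u ^ i) v = v := by
          induction i with
          | zero => rfl
          | succ i ih' =>
            rw [pow_succ]
            change (u ^ i) (u v) = v
            rw [huv, ih']
        have h2 : (u ^ i)⁻¹ ((u ^ i) v) = v := by
          change ((u ^ i)⁻¹ * u ^ i) v = v
          rw [inv_mul_cancel]; rfl
        rwa [h1] at h2
      have hsumO : ∑ x ∈ O, x v = ∑ i ∈ Finset.range p, (u ^ i) (r v) := by
        rw [Finset.sum_image hinj]
        refine Finset.sum_congr rfl fun i _ => ?_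
        change (u ^ i) (r ((u ^ i)⁻¹ v)) = _
        rw [hvi]
      -- the rest
      have hrest : ∀ x ∈ s \ O, u * x * u⁻¹ ∈ s \ O := by
        intro x hx
        rw [Finset.mem_sdiff] at hx ⊢
        refine ⟨hsu x hx.1, fun h => hx.2 ?_⟩
        obtain ⟨i, hi, h1⟩ := Finset.mem_image.1 h
        have h2 : x = u ^ (i + (p - 1)) * r * (u ^ (i + (p - 1)))⁻¹ := by
          have e1 : x = u⁻¹ * (u * x * u⁻¹) * u := by group
          have e2 : u⁻¹ = u ^ (p - 1) := by
            rw [inv_eq_iff_mul_eq_one, ← pow_succ', Nat.sub_add_cancel hpp.one_lt.le, hup]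
          rw [e1, ← h1]
          have e3 : u⁻¹ * (u ^ i * r * (u ^ i)⁻¹) * u = (u⁻¹ * u ^ i) * r * (u⁻¹ * u ^ i)⁻¹ := by group
          rw [e3, e2, ← pow_add, add_comm]
        rw [h2]
        refine Finset.mem_image.2 ⟨(i + (p - 1)) % p, Finset.mem_range.2 (Nat.mod_lt _ hpp.pos), ?_⟩
        rw [pow_mod_aux' hup]
      obtain ⟨w, hw, h3⟩ := ih (s \ O).card (by
        rw [← hs]
        exact Finset.card_lt_card (Finset.sdiff_ssubset hOs ⟨r, hrO⟩)) (s \ O) rfl
        (fun x hx => hsR x (Finset.mem_sdiff.1 hx).1) hrest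
      refine ⟨w + r v, W.add_mem hw (hW r (hsR r hr).1 v hv), ?_⟩
      rw [← Finset.sum_sdiff hOs, h3, hsumO, ← Finset.sum_add_distrib]
      refine Finset.sum_congr rfl fun i _ => ?_
      rw [map_add]

/-- the sum of the elements of `R` -/
noncomputable def ssum (R : Subgroup (V ≃ₗ[ZMod p] V)) : V →ₗ[ZMod p] V :=
  ∑ r : R, ((r : V ≃ₗ[ZMod p] V) : V →ₗ[ZMod p] V)

theorem ssum_apply (R : Subgroup (V ≃ₗ[ZMod p] V)) (v : V) : ssum R v = ∑ r : R, (r : V ≃ₗ[ZMod p] V) v := by
  unfold ssum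
  rw [LinearMap.sum_apply]
  rfl

theorem ssum_mem (R : Subgroup (V ≃ₗ[ZMod p] V)) (v : V) : ssum R v ∈ fxs R := by
  intro g hg
  rw [ssum_apply, map_sum]
  exact Fintype.sum_equiv (Equiv.mulLeft (⟨g, hg⟩ : R)) _ _ (fun r => rfl)

theorem ssum_fix {R : Subgroup (V ≃ₗ[ZMod p] V)} {v : V} (hv : v ∈ fxs R) : ssum R v = Nat.card R • v := by
  rw [ssum_apply, Finset.sum_congr rfl (fun r _ => hv _ (SetLike.coe_mem r)), Finset.sum_const, Finset.card_univ,
    Nat.card_eq_fintype_card]

theorem ssum_smul (R : Subgroup (V ≃ₗ[ZMod p] V)) {g : V ≃ₗ[ZMod p] V} (hg : g ∈ R) (v : V) :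
    ssum R (g v) = ssum R v := by
  rw [ssum_apply, ssum_apply]
  exact Fintype.sum_equiv (Equiv.mulRight (⟨g, hg⟩ : R)) _ _ (fun r => rfl)

theorem ssum_conj {R : Subgroup (V ≃ₗ[ZMod p] V)} {u : V ≃ₗ[ZMod p] V} (hu : ∀ r ∈ R, u * r * u⁻¹ ∈ R) (v : V) :
    ssum R (u v) = u (ssum R v) := by
  have hmap : R.map (MulAut.conj u).toMonoidHom = R := map_conj_eq hu
  rw [ssum_apply, ssum_apply, map_sum]
  refine (Fintype.sum_bijective (fun r : R => (⟨u * r * u⁻¹, hu r r.2⟩ : R)) ⟨?_, ?_⟩ _ _ (fun r => ?_)).symm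
  · intro a b h
    have h1 : u * (a : V ≃ₗ[ZMod p] V) * u⁻¹ = u * b * u⁻¹ := congrArg Subtype.val h
    exact Subtype.ext (mul_left_cancel (mul_right_cancel h1))
  · intro b
    have h1 : (b : V ≃ₗ[ZMod p] V) ∈ R.map (MulAut.conj u).toMonoidHom := by rw [hmap]; exact b.2
    obtain ⟨a, ha, h2⟩ := h1
    exact ⟨⟨a, ha⟩, Subtype.ext h2⟩
  · change u ((r : V ≃ₗ[ZMod p] V) v) = u ((r : V ≃ₗ[ZMod p] V) (u⁻¹ (u v)))
    have : u⁻¹ (u v) = v := by
      change (u⁻¹ * u) v = v
      rw [inv_mul_cancel]; rfl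
    rw [this]

/-- the sum of the non-trivial submodules -/
noncomputable def ntr (R : Subgroup (V ≃ₗ[ZMod p] V)) : Submodule (ZMod p) V := LinearMap.ker (ssum R)

theorem ntr_inv {R : Subgroup (V ≃ₗ[ZMod p] V)} {g : V ≃ₗ[ZMod p] V} (hg : g ∈ R) {v : V} (hv : v ∈ ntr R) :
    g v ∈ ntr R := by
  change ssum R (g v) = 0
  rw [ssum_smul R hg]; exact hv

theorem smul_inj {n : ℕ} (hn : ¬ p ∣ n) {v : V} (h : n • v = 0) : v = 0 := by
  have h1 : (n : ZMod p) • v = 0 := by rw [Nat.cast_smul_eq_nsmul]; exact h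
  rcases smul_eq_zero.1 h1 with h2 | h2
  · exact absurd ((ZMod.natCast_eq_zero_iff n p).1 h2) hn
  · exact h2

theorem ntr_inf {R : Subgroup (V ≃ₗ[ZMod p] V)} (hR : ¬ p ∣ Nat.card R) {v : V} (hv : v ∈ ntr R) (hf : v ∈ fxs R) :
    v = 0 := by
  have h1 : ssum R v = 0 := hv
  rw [ssum_fix hf] at h1
  exact smul_inj hR h1

theorem range_ssum {R : Subgroup (V ≃ₗ[ZMod p] V)} (hR : ¬ p ∣ Nat.card R) : (⊤ : Submodule (ZMod p) V).map (ssum R) = fxs R := by
  apply le_antisymm
  · rintro _ ⟨v, -, rfl⟩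
    exact ssum_mem R v
  · intro v hv
    have h1 : ((Nat.card R : ℕ) : ZMod p) ≠ 0 := fun h => hR ((ZMod.natCast_eq_zero_iff _ p).1 h)
    refine ⟨((Nat.card R : ℕ) : ZMod p)⁻¹ • v, trivial, ?_⟩
    rw [map_smul, ssum_fix hv, ← Nat.cast_smul_eq_nsmul (ZMod p), smul_smul, inv_mul_cancel₀ h1, one_smul]

/-- `|V| = |C_V(R)| |[V, R]|` -/
theorem card_ntr {R : Subgroup (V ≃ₗ[ZMod p] V)} (hR : ¬ p ∣ Nat.card R) :
    Nat.card V = Nat.card (fxs R) * Nat.card (ntr R) := by
  have h1 := card_map_ker (⊤ : Submodule (ZMod p) V) (ssum R)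
  rw [range_ssum hR, top_inf_eq, Nat.card_congr (Submodule.topEquiv (R := ZMod p) (M := V)).toEquiv] at h1
  exact h1

variable {R : Subgroup (V ≃ₗ[ZMod p] V)} {u : V ≃ₗ[ZMod p] V}

/-- the fixed space of `u` -/
theorem card_fx_le (hR : ¬ p ∣ Nat.card R) (hu : ∀ r ∈ R, u * r * u⁻¹ ∈ R) :
    Nat.card (fx u) ≤ Nat.card (fxs R) * Nat.card (ntr R ⊓ fx u : Submodule (ZMod p) V) := by
  rw [card_map_ker (fx u) (ssum R)]
  refine Nat.mul_le_mul ?_ ?_
  · refine Nat.card_le_card_of_injective _ (Submodule.inclusion_injective (?_ : (fx u).map (ssum R) ≤ fxs R))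
    rintro _ ⟨v, -, rfl⟩
    exact ssum_mem R v
  · rw [inf_comm]; exact le_rfl

/-- **the module `[V, R]` is free over `⟨u⟩`** -/
theorem card_ntr_free (hup : u ^ p = 1) (hR : ¬ p ∣ Nat.card R) (hu : ∀ r ∈ R, u * r * u⁻¹ ∈ R)
    (hfix : ∀ r ∈ R, r ≠ 1 → u * r * u⁻¹ ≠ r) :
    Nat.card (ntr R) = Nat.card (ntr R ⊓ fx u : Submodule (ZMod p) V) ^ p := by
  classical
  have hpp : p.Prime := Fact.out
  let U : Module.End (ZMod p) V := (u : V →ₗ[ZMod p] V)
  have hUp : U ^ p = 1 := by
    have h1 := coe_pow u p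
    rw [hup] at h1
    exact h1.symm
  have hDu : ∀ v, (U - 1) v = u v - v := fun v => rfl
  have hmem : ∀ v ∈ ntr R, u v ∈ ntr R := by
    intro v hv
    change ssum R (u v) = 0
    rw [ssum_conj hu, (show ssum R v = 0 from hv), map_zero]
  have hker : (ntr R ⊓ LinearMap.ker (U - 1) : Submodule (ZMod p) V) = ntr R ⊓ fx u := by
    congr 1
  rw [← hker]
  refine card_free (D := U - 1) (fun v hv => ?_) (fun v hv => ?_) (fun v hv h0 => ?_)
  · rw [hDu]; exact Submodule.sub_mem _ (hmem v hv) hv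
  · rw [pow_sub_one' U hUp]; rfl
  · have huv : u v = v := by
      rw [hDu, sub_eq_zero] at h0
      exact h0
    letI : Fintype (V ≃ₗ[ZMod p] V) := Fintype.ofFinite _
    let s : Finset (V ≃ₗ[ZMod p] V) := Finset.univ.filter fun r => r ∈ R ∧ r ≠ 1
    have hs : ∀ r, r ∈ s ↔ r ∈ R ∧ r ≠ 1 := fun r => by simp [s]
    obtain ⟨w, hw, h1⟩ := sum_orbits hup hfix (ntr R) (fun r hr x hx => ntr_inv hr hx) hv huv s.card s rfl
      (fun r hr => (hs r).1 hr) (fun r hr => by
        rw [hs] at hr ⊢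
        refine ⟨hu r hr.1, fun h => hr.2 ?_⟩
        have h2 : r = u⁻¹ * (u * r * u⁻¹) * u := by group
        rw [h2, h]; group)
    have h2 : ∑ r : R, (r : V ≃ₗ[ZMod p] V) v = v + ∑ r ∈ s, r v := by
      have e1 : ∑ r : R, (r : V ≃ₗ[ZMod p] V) v =
          ∑ r ∈ Finset.univ.filter (fun r : V ≃ₗ[ZMod p] V => r ∈ R), r v := by
        exact (Finset.sum_subtype (Finset.univ.filter (fun r : V ≃ₗ[ZMod p] V => r ∈ R)) (fun r => by simp)
          (fun r : V ≃ₗ[ZMod p] V => r v)).symm
      have e2 : Finset.univ.filter (fun r : V ≃ₗ[ZMod p] V => r ∈ R) = insert 1 s := by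
        ext r
        simp only [Finset.mem_filter, Finset.mem_univ, true_and, Finset.mem_insert, hs]
        constructor
        · intro h
          by_cases h1 : r = 1
          · exact Or.inl h1
          · exact Or.inr ⟨h, h1⟩
        · rintro (h | h)
          · rw [h]; exact R.one_mem
          · exact h.1
      rw [e1, e2, Finset.sum_insert (fun h => ((hs 1).1 h).2 rfl)]
      rfl
    have h3 : v + ∑ i ∈ Finset.range p, (u ^ i) w = 0 := by
      rw [← h1, ← h2, ← ssum_apply]; exact hv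
    refine ⟨-w, Submodule.neg_mem _ hw, ?_⟩
    rw [pow_sub_one U, map_neg, LinearMap.sum_apply]
    have h4 : ∑ i ∈ Finset.range p, (U ^ i) w = ∑ i ∈ Finset.range p, (u ^ i) w := by
      refine Finset.sum_congr rfl fun i _ => ?_
      have h5 : U ^ i = ((u ^ i : V ≃ₗ[ZMod p] V) : V →ₗ[ZMod p] V) := (coe_pow u i).symm
      rw [h5]; rfl
    rw [h4]
    exact (eq_neg_of_add_eq_zero_left h3).symm

end frob

/-! ### the version over a field -/

section K

variable {p : ℕ} [Fact p.Prime] {V : Type u} [AddCommGroup V] [Module (ZMod p) V] [Finite V]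
variable {K : Type v} [Field K] [Module K V]

theorem card_K_pow (X : Submodule (ZMod p) V) (hX : ∀ (c : K), ∀ v ∈ X, c • v ∈ X) : ∃ d, Nat.card X = Nat.card K ^ d := by
  let Y : Submodule K V :=
    { carrier := X
      zero_mem' := X.zero_mem
      add_mem' := X.add_mem
      smul_mem' := hX }
  refine ⟨Module.finrank K Y, ?_⟩
  have := Module.natCard_eq_pow_finrank (K := K) (V := Y)
  exact this

/-- a prime order element has `|[V, x]| ≡ 1` -/
theorem ntr_modEq {l : ℕ} (hl : l.Prime) (hlp : l ≠ p) {x : V ≃ₗ[ZMod p] V} (hx1 : x ≠ 1) (hxl : x ^ l = 1) :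
    l ∣ Nat.card (ntr (zpowers x)) - 1 := by
  classical
  haveI : Fact l.Prime := ⟨hl⟩
  have hord : orderOf x = l := orderOf_eq_prime hxl hx1
  have hcard : Nat.card (zpowers x) = l := by rw [Nat.card_zpowers, hord]
  have hR : ¬ p ∣ Nat.card (zpowers x) := by
    rw [hcard]
    intro h
    exact hlp ((Nat.prime_dvd_prime_iff_eq (Fact.out : p.Prime) hl).1 h).symm
  let act : MulAction (zpowers x) (ntr (zpowers x)) :=
    { smul := fun g v => ⟨(g : V ≃ₗ[ZMod p] V) v, ntr_inv g.2 v.2⟩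
      one_smul := fun v => Subtype.ext rfl
      mul_smul := fun a b v => Subtype.ext rfl }
  have h1 := (IsPGroup.of_card (n := 1) (by rw [hcard, pow_one]) : IsPGroup l (zpowers x)).card_modEq_card_fixedPoints
    (ntr (zpowers x))
  have h2 : Nat.card (fixedPoints (zpowers x) (ntr (zpowers x))) = 1 := by
    rw [Nat.card_eq_one_iff_unique]
    refine ⟨⟨fun a b => ?_⟩, ⟨⟨0, fun g => Subtype.ext (map_zero _)⟩⟩⟩
    have h3 : ∀ a : fixedPoints (zpowers x) (ntr (zpowers x)), (a : ntr (zpowers x)) = 0 := by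
      rintro ⟨a, ha⟩
      apply Subtype.ext
      refine ntr_inf hR a.2 fun g hg => ?_
      exact congrArg Subtype.val (ha ⟨g, hg⟩)
    exact Subtype.ext ((h3 a).trans (h3 b).symm)
  rw [h2] at h1
  exact (Nat.modEq_iff_dvd' Nat.card_pos).1 h1.symm

/-- **Frobenius groups with complement of order `p` over `K`** -/
theorem frobK [Finite K] {x u : V ≃ₗ[ZMod p] V} (hx : ∀ (c : K) (v : V), x (c • v) = c • x v)
    (hu : ∀ (c : K) (v : V), u (c • v) = c • u v) {l : ℕ} (hl : l.Prime) (hlp : l ≠ p) (hx1 : x ≠ 1)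
    (hxl : x ^ l = 1) (hup : u ^ p = 1) {k : ℕ} (huk : u * x * u⁻¹ = x ^ k) (hk : x ^ k ≠ x) :
    ∃ d e, Module.finrank K V = d + p * e ∧ 1 ≤ e ∧ l ∣ Nat.card K ^ (p * e) - 1 ∧
      Nat.card (fx u) ≤ Nat.card K ^ (d + e) ∧ Nat.card (fxs (zpowers x)) = Nat.card K ^ d := by
  classical
  haveI : Fact l.Prime := ⟨hl⟩
  have hpp : p.Prime := Fact.out
  have hord : orderOf x = l := orderOf_eq_prime hxl hx1
  have hcard : Nat.card (zpowers x) = l := by rw [Nat.card_zpowers, hord]
  have hR : ¬ p ∣ Nat.card (zpowers x) := by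
    rw [hcard]
    intro h
    exact hlp ((Nat.prime_dvd_prime_iff_eq hpp hl).1 h).symm
  have hxz : ∀ (n : ℤ) (c : K) (v : V), (x ^ n) (c • v) = c • (x ^ n) v := by
    let H : Subgroup (V ≃ₗ[ZMod p] V) :=
      { carrier := {g | ∀ (c : K) (v : V), g (c • v) = c • g v}
        one_mem' := fun c v => rfl
        mul_mem' := fun {a b} ha hb c v => by
          change a (b (c • v)) = c • a (b v)
          rw [hb, ha]
        inv_mem' := fun {a} ha c v => by
          apply a.injective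
          rw [ha]
          change (a * a⁻¹) (c • v) = c • (a * a⁻¹) v
          rw [mul_inv_cancel]; rfl }
    have : x ∈ H := hx
    intro n
    exact H.zpow_mem this n
  have hnorm : ∀ r ∈ zpowers x, u * r * u⁻¹ ∈ zpowers x := by
    rintro _ ⟨n, rfl⟩
    have : u * x ^ n * u⁻¹ = (x ^ k) ^ n := by
      rw [← huk, conj_zpow]
    rw [this]
    exact zpow_mem (pow_mem (mem_zpowers x) k) n
  have hfix : ∀ r ∈ zpowers x, r ≠ 1 → u * r * u⁻¹ ≠ r := by
    intro r hr hr1 he
    apply hk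
    have h1 : (⟨x, mem_zpowers x⟩ : zpowers x) ∈ zpowers (⟨r, hr⟩ : zpowers x) :=
      mem_zpowers_of_prime_card hcard (fun h => hr1 (congrArg Subtype.val h))
    obtain ⟨n, hn⟩ := h1
    have h2 : r ^ n = x := congrArg Subtype.val hn
    rw [← huk, ← h2]
    have h3 : Commute u r := mul_inv_eq_iff_eq_mul.1 he
    rw [(h3.zpow_right n).eq, mul_inv_cancel_right]
  have hfree := card_ntr_free hup hR hnorm hfix
  have hV := card_ntr hR (V := V)
  -- powers
  obtain ⟨d, hd⟩ := card_K_pow (K := K) (fxs (zpowers x)) (fun c v hv g hg => by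
    obtain ⟨n, rfl⟩ := hg
    rw [hxz, hv _ ⟨n, rfl⟩])
  have hssum : ∀ (c : K) (v : V), ssum (zpowers x) (c • v) = c • ssum (zpowers x) v := by
    intro c v
    rw [ssum_apply, ssum_apply, Finset.smul_sum]
    refine Finset.sum_congr rfl fun r _ => ?_
    obtain ⟨n, hn⟩ := r.2
    rw [← hn]
    exact hxz n c v
  obtain ⟨e, he⟩ := card_K_pow (K := K) (ntr (zpowers x) ⊓ fx u) (fun c v hv => by
    refine ⟨?_, mem_fx.2 ?_⟩
    · change ssum (zpowers x) (c • v) = 0
      rw [hssum, (show ssum (zpowers x) v = 0 from hv.1), smul_zero]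
    · rw [hu, mem_fx.1 hv.2])
  have hq : 1 < Nat.card K := Finite.one_lt_card
  have hn := Module.natCard_eq_pow_finrank (K := K) (V := V)
  have hW : Nat.card (ntr (zpowers x)) = Nat.card K ^ (p * e) := by rw [hfree, he, ← pow_mul, mul_comm]
  refine ⟨d, e, ?_, ?_, ?_, ?_, hd⟩
  · have h1 : Nat.card K ^ Module.finrank K V = Nat.card K ^ (d + p * e) := by
      rw [← hn, hV, hd, hW, ← pow_add]
    exact Nat.pow_right_injective hq h1
  · by_contra h0
    have he0 : e = 0 := by omega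
    rw [he0, mul_zero, pow_zero] at hW
    apply hx1
    apply LinearEquiv.ext
    intro v
    have h1 : Nat.card V = Nat.card (fxs (zpowers x)) := by rw [hV, hW, mul_one]
    have h2 : fxs (zpowers x) = ⊤ := by
      apply Submodule.eq_top_of_finrank_eq
      rw [card_eq_pow (p := p), card_eq_pow (p := p) (fxs (zpowers x))] at h1
      exact (Nat.pow_right_injective hpp.two_le h1).symm
    have h3 : v ∈ fxs (zpowers x) := by rw [h2]; trivial
    exact h3 x (mem_zpowers x)
  · rw [← hW]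
    exact ntr_modEq hl hlp hx1 hxl
  · have h1 := card_fx_le (u := u) hR hnorm
    rw [hd, he, ← pow_add] at h1
    exact h1

end K

end Cfsg.Agent.H960.HTP
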