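import Cfsg.Agent.H19.HT.Irr
import Cfsg.Agent.Lib.GoldschmidtFusion

/-!
# S3512: counting with the fixed spaces of the Sylow `p`-subgroups (helper960)

`A = V ≃ₗ[ZMod p] V`.  `IsSyl p P L`: `P` is a Sylow `p`-subgroup of `L`.  `fxs P`: the vectors fixed by `P`.
`PrimeOrb L`: every non-zero vector is fixed by a Sylow `p`-subgroup of `L`.
-/

set_option autoImplicit false
set_option linter.unusedSectionVars false
set_option linter.unusedVariables false
set_option linter.style.haveILetI false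

namespace Cfsg.Agent.H960.HTP

open MulAction Subgroup Cfsg.Agent.H828.HT

universe u

/-! ### Sylow subgroups of subgroups -/

section syl

variable {A : Type*} [Group A] {p : ℕ} [Fact p.Prime]

/-- `P` is a Sylow `p`-subgroup of `M` -/
structure IsSyl (p : ℕ) (P M : Subgroup A) : Prop where
  le : P ≤ M
  pg : IsPGroup p P
  ndvd : ¬ p ∣ P.relIndex M

theorem IsSyl.mono {P M N : Subgroup A} [Finite A] (h : IsSyl p P N) (hPM : P ≤ M) (hMN : M ≤ N) : IsSyl p P M := by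
  refine ⟨hPM, h.pg, fun hd => h.ndvd ?_⟩
  rw [← relIndex_mul_relIndex P M N hPM hMN]
  exact dvd_mul_of_dvd_left hd _

theorem IsSyl.conj {P Q M : Subgroup A} [Finite A] (hP : IsSyl p P M) (hQ : IsSyl p Q M) :
    ∃ y ∈ M, P.map (MulAut.conj y).toMonoidHom = Q := by
  obtain ⟨y, hy, h1⟩ := Cfsg.Agent.Lib.GoldschmidtFusion.exists_conj_le_in hQ.pg hQ.ndvd hP.le hP.pg
  refine ⟨y, hy, ?_⟩
  obtain ⟨z, hz, h2⟩ := Cfsg.Agent.Lib.GoldschmidtFusion.exists_conj_le_in hP.pg hP.ndvd hQ.le hQ.pg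
  have e1 : Nat.card (P.map (MulAut.conj y).toMonoidHom) = Nat.card P :=
    Nat.card_congr (P.equivMapOfInjective _ (MulAut.conj y).injective).toEquiv.symm
  have e2 : Nat.card (Q.map (MulAut.conj z).toMonoidHom) = Nat.card Q :=
    Nat.card_congr (Q.equivMapOfInjective _ (MulAut.conj z).injective).toEquiv.symm
  have h3 : Nat.card Q ≤ Nat.card P := by
    rw [← e2]; exact Nat.card_le_card_of_injective _ (Subgroup.inclusion_injective h2)
  exact Subgroup.eq_of_le_of_card_ge h1 (by rw [e1]; exact h3)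

theorem IsSyl.map {P M : Subgroup A} [Finite A] (h : IsSyl p P M) (g : A) :
    IsSyl p (P.map (MulAut.conj g).toMonoidHom) (M.map (MulAut.conj g).toMonoidHom) := by
  refine ⟨Subgroup.map_mono h.le, h.pg.map _, ?_⟩
  rw [Subgroup.relIndex_map_map_of_injective _ _ (MulAut.conj g).injective]
  exact h.ndvd

theorem exists_isSyl (M : Subgroup A) [Finite A] : ∃ P, IsSyl p P M := by
  obtain ⟨R, -, h1, h2, h3⟩ := Cfsg.Agent.Lib.GoldschmidtFusion.exists_sylow_in (p := p) (N := M) (D := ⊥) bot_le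
    (IsPGroup.of_bot)
  exact ⟨R, h1, h2, h3⟩

/-- a Sylow subgroup of a subgroup of index prime to `p` -/
theorem IsSyl.of_le {P M N : Subgroup A} [Finite A] (h : IsSyl p P M) (hMN : M ≤ N) (hi : ¬ p ∣ M.relIndex N) :
    IsSyl p P N := by
  refine ⟨h.le.trans hMN, h.pg, fun hd => ?_⟩
  rw [← relIndex_mul_relIndex P M N h.le hMN] at hd
  rcases (Fact.out : p.Prime).dvd_mul.1 hd with h1 | h1
  · exact h.ndvd h1
  · exact hi h1

end syl

section fix

variable {p : ℕ} [Fact p.Prime] {V : Type u} [AddCommGroup V] [Module (ZMod p) V]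

/-- the vectors fixed by `P` -/
def fxs (P : Subgroup (V ≃ₗ[ZMod p] V)) : Submodule (ZMod p) V where
  carrier := {v | ∀ g ∈ P, g v = v}
  zero_mem' := fun g _ => map_zero g
  add_mem' := fun {a b} ha hb g hg => by rw [map_add, ha g hg, hb g hg]
  smul_mem' := fun c v hv g hg => by rw [map_smul, hv g hg]

theorem mem_fxs {P : Subgroup (V ≃ₗ[ZMod p] V)} {v : V} : v ∈ fxs P ↔ ∀ g ∈ P, g v = v := Iff.rfl

/-- the stabiliser of `v` in `L` -/
def stv (L : Subgroup (V ≃ₗ[ZMod p] V)) (v : V) : Subgroup (V ≃ₗ[ZMod p] V) where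
  carrier := {g | g ∈ L ∧ g v = v}
  one_mem' := ⟨L.one_mem, rfl⟩
  mul_mem' := fun {a b} ha hb => ⟨L.mul_mem ha.1 hb.1, by
    change a (b v) = v
    rw [hb.2, ha.2]⟩
  inv_mem' := fun {a} ha => ⟨L.inv_mem ha.1, by
    have h1 : a⁻¹ (a v) = v := by
      change (a⁻¹ * a) v = v
      rw [inv_mul_cancel]; rfl
    rw [ha.2] at h1
    exact h1⟩

theorem mem_stv {L : Subgroup (V ≃ₗ[ZMod p] V)} {v : V} {g : V ≃ₗ[ZMod p] V} : g ∈ stv L v ↔ g ∈ L ∧ g v = v := Iff.rfl

theorem stv_le {L : Subgroup (V ≃ₗ[ZMod p] V)} {v : V} : stv L v ≤ L := fun _ h => h.1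

theorem le_stv {L P : Subgroup (V ≃ₗ[ZMod p] V)} (hPL : P ≤ L) {v : V} : P ≤ stv L v ↔ v ∈ fxs P :=
  ⟨fun h g hg => (h hg).2, fun h g hg => ⟨hPL hg, h g hg⟩⟩

theorem card_stv (L : Subgroup (V ≃ₗ[ZMod p] V)) (v : V) : Nat.card (stv L v) = Nat.card (stabilizer L v) := by
  refine Nat.card_congr
    { toFun := fun g => ⟨⟨g.1, g.2.1⟩, g.2.2⟩
      invFun := fun g => ⟨g.1.1, g.1.2, g.2⟩
      left_inv := fun _ => rfl
      right_inv := fun _ => rfl }

/-- conjugation and fixed vectors -/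
theorem mem_fxs_map {P : Subgroup (V ≃ₗ[ZMod p] V)} {g : V ≃ₗ[ZMod p] V} {v : V} :
    g v ∈ fxs (P.map (MulAut.conj g).toMonoidHom) ↔ v ∈ fxs P := by
  constructor
  · intro h x hx
    have h1 := h _ (Subgroup.mem_map_of_mem _ hx)
    have h2 : (g * x * g⁻¹) (g v) = g (x v) := by
      change g (x (g⁻¹ (g v))) = _
      have : g⁻¹ (g v) = v := by
        change (g⁻¹ * g) v = v
        rw [inv_mul_cancel]; rfl
      rw [this]
    have h3 : (g * x * g⁻¹) (g v) = g v := h1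
    rw [h2] at h3
    exact g.injective h3
  · rintro h _ ⟨x, hx, rfl⟩
    change (g * x * g⁻¹) (g v) = g v
    change g (x (g⁻¹ (g v))) = _
    have : g⁻¹ (g v) = v := by
      change (g⁻¹ * g) v = v
      rw [inv_mul_cancel]; rfl
    rw [this, h x hx]

theorem card_fxs_map (P : Subgroup (V ≃ₗ[ZMod p] V)) (g : V ≃ₗ[ZMod p] V) :
    Nat.card (fxs (P.map (MulAut.conj g).toMonoidHom)) = Nat.card (fxs P) := by
  refine (Nat.card_congr (Equiv.subtypeEquiv (g.toEquiv) (fun v => ?_))).symm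
  exact mem_fxs_map.symm

/-- every non-zero vector is fixed by a Sylow `p`-subgroup of `L` -/
def PrimeOrb (L : Subgroup (V ≃ₗ[ZMod p] V)) : Prop :=
  ∀ v : V, v ≠ 0 → ¬ p ∣ (stv L v).relIndex L

variable [Finite V]

theorem PrimeOrb.exists_syl {L : Subgroup (V ≃ₗ[ZMod p] V)} (hL : PrimeOrb L) {v : V} (hv : v ≠ 0) :
    ∃ P, IsSyl p P L ∧ IsSyl p P (stv L v) := by
  obtain ⟨P, hP⟩ := exists_isSyl (p := p) (stv L v)
  exact ⟨P, hP.of_le stv_le (hL v hv), hP⟩

theorem relIndex_mul_card {A : Type*} [Group A] {H K : Subgroup A} (h : H ≤ K) :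
    H.relIndex K * Nat.card H = Nat.card K := by
  rw [mul_comm, Subgroup.relIndex, ← Subgroup.card_mul_index (H.subgroupOf K),
    Nat.card_congr (Subgroup.subgroupOfEquivOfLe h).toEquiv]

/-- the normaliser of `P` in `G` -/
def nml {A : Type*} [Group A] (G P : Subgroup A) : Subgroup A where
  carrier := {g | g ∈ G ∧ P.map (MulAut.conj g).toMonoidHom = P}
  one_mem' := ⟨G.one_mem, by
    have : (MulAut.conj (1 : A)).toMonoidHom = MonoidHom.id A := by ext x; simp
    rw [this, Subgroup.map_id]⟩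
  mul_mem' := fun {a b} ha hb => ⟨G.mul_mem ha.1 hb.1, by
    have : (MulAut.conj (a * b)).toMonoidHom = (MulAut.conj a).toMonoidHom.comp (MulAut.conj b).toMonoidHom := by
      ext x; simp
    rw [this, ← Subgroup.map_map, hb.2, ha.2]⟩
  inv_mem' := fun {a} ha => ⟨G.inv_mem ha.1, by
    have : (MulAut.conj a⁻¹).toMonoidHom.comp (MulAut.conj a).toMonoidHom = MonoidHom.id A := by
      ext x; simp [mul_assoc]
    calc P.map (MulAut.conj a⁻¹).toMonoidHom
        = (P.map (MulAut.conj a).toMonoidHom).map (MulAut.conj a⁻¹).toMonoidHom := by rw [ha.2]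
      _ = P := by rw [Subgroup.map_map, this, Subgroup.map_id]⟩

theorem mem_nml {A : Type*} [Group A] {G P : Subgroup A} {g : A} :
    g ∈ nml G P ↔ g ∈ G ∧ P.map (MulAut.conj g).toMonoidHom = P := Iff.rfl

theorem map_conj_eq {A : Type*} [Group A] {L : Subgroup A} {g : A} [Finite A] (h : ∀ l ∈ L, g * l * g⁻¹ ∈ L) :
    L.map (MulAut.conj g).toMonoidHom = L := by
  refine Subgroup.eq_of_le_of_card_ge ?_ ?_
  · rintro _ ⟨l, hl, rfl⟩
    exact h l hl
  · rw [Nat.card_congr (L.equivMapOfInjective _ (MulAut.conj g).injective).toEquiv.symm]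

section action

variable {A : Type*} [Group A] [Finite A] (L : Subgroup A)

/-- `L` acts on its Sylow subgroups -/
instance sylAct : MulAction L {P : Subgroup A // IsSyl p P L} where
  smul g P := ⟨P.1.map (MulAut.conj (g : A)).toMonoidHom, by
    have h1 := P.2.map (g : A)
    rwa [map_conj_eq (fun l hl => L.mul_mem (L.mul_mem g.2 hl) (L.inv_mem g.2))] at h1⟩
  one_smul P := by
    apply Subtype.ext
    change P.1.map (MulAut.conj ((1 : L) : A)).toMonoidHom = P.1
    have : (MulAut.conj ((1 : L) : A)).toMonoidHom = MonoidHom.id A := by ext x; simp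
    rw [this, Subgroup.map_id]
  mul_smul a b P := by
    apply Subtype.ext
    change P.1.map (MulAut.conj ((a * b : L) : A)).toMonoidHom =
      (P.1.map (MulAut.conj (b : A)).toMonoidHom).map (MulAut.conj (a : A)).toMonoidHom
    have : (MulAut.conj ((a * b : L) : A)).toMonoidHom =
        (MulAut.conj (a : A)).toMonoidHom.comp (MulAut.conj (b : A)).toMonoidHom := by
      ext x; simp
    rw [this, ← Subgroup.map_map]

/-- the number of Sylow subgroups -/
theorem card_syl {P : Subgroup A} (hP : IsSyl p P L) :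
    Nat.card {P : Subgroup A // IsSyl p P L} * Nat.card (nml L P) = Nat.card L := by
  have h1 := Nat.card_congr (MulAction.orbitProdStabilizerEquivGroup L (⟨P, hP⟩ : {P : Subgroup A // IsSyl p P L}))
  rw [Nat.card_prod] at h1
  rw [← h1]
  congr 1
  · have : MulAction.orbit L (⟨P, hP⟩ : {P : Subgroup A // IsSyl p P L}) = Set.univ := by
      rw [Set.eq_univ_iff_forall]
      rintro ⟨Q, hQ⟩
      obtain ⟨y, hy, h2⟩ := hP.conj hQ
      exact ⟨⟨y, hy⟩, Subtype.ext h2⟩
    rw [this, Nat.card_congr (Equiv.Set.univ _)]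
  · refine Nat.card_congr
      { toFun := fun g => ⟨⟨g.1, g.2.1⟩, Subtype.ext g.2.2⟩
        invFun := fun g => ⟨g.1.1, g.1.2, congrArg Subtype.val g.2⟩
        left_inv := fun _ => rfl
        right_inv := fun _ => rfl }

end action

/-! ### coverage -/

section cov

variable {L P : Subgroup (V ≃ₗ[ZMod p] V)}

/-- pairs (Sylow subgroup, fixed vector) -/
abbrev Pairs (L : Subgroup (V ≃ₗ[ZMod p] V)) : Type u :=
  Σ P : {P : Subgroup (V ≃ₗ[ZMod p] V) // IsSyl p P L}, {v : V // v ∈ fxs P.1 ∧ v ≠ 0}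

theorem card_nz (W : Submodule (ZMod p) V) : Nat.card {v : V // v ∈ W ∧ v ≠ 0} = Nat.card W - 1 := by
  have h1 := Set.ncard_sdiff_singleton_of_mem (W.zero_mem : (0 : V) ∈ (W : Set V))
  have h2 : ((W : Set V) \ {0}) = {v : V | v ∈ W ∧ v ≠ 0} := by
    ext v; simp
  rw [h2, ← Nat.card_coe_set_eq, ← Nat.card_coe_set_eq] at h1
  exact h1

theorem card_pairs (hP : IsSyl p P L) :
    Nat.card (Pairs L) = Nat.card {P : Subgroup (V ≃ₗ[ZMod p] V) // IsSyl p P L} * (Nat.card (fxs P) - 1) := by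
  classical
  have : Fintype {P : Subgroup (V ≃ₗ[ZMod p] V) // IsSyl p P L} := Fintype.ofFinite _
  rw [Nat.card_sigma]
  have h1 : ∀ Q : {P : Subgroup (V ≃ₗ[ZMod p] V) // IsSyl p P L},
      Nat.card {v : V // v ∈ fxs Q.1 ∧ v ≠ 0} = Nat.card (fxs P) - 1 := by
    rintro ⟨Q, hQ⟩
    obtain ⟨y, -, rfl⟩ := hP.conj hQ
    rw [card_nz, card_fxs_map]
  rw [Finset.sum_congr rfl (fun Q _ => h1 Q), Finset.sum_const, Finset.card_univ, smul_eq_mul,
    ← Nat.card_eq_fintype_card (α := {P : Subgroup (V ≃ₗ[ZMod p] V) // IsSyl p P L})]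

/-- the projection to the vectors -/
def proj (L : Subgroup (V ≃ₗ[ZMod p] V)) : Pairs L → {v : V // v ≠ 0} := fun z => ⟨z.2.1, z.2.2.2⟩

theorem proj_surjective (hL : PrimeOrb L) : Function.Surjective (proj L) := by
  rintro ⟨v, hv⟩
  obtain ⟨P, h1, h2⟩ := hL.exists_syl hv
  exact ⟨⟨⟨P, h1⟩, ⟨v, (le_stv h1.le).1 h2.le, hv⟩⟩, rfl⟩

theorem card_ne_zero' (V : Type*) [AddCommGroup V] [Finite V] : Nat.card {v : V // v ≠ 0} = Nat.card V - 1 := by
  have h1 := Set.ncard_sdiff_singleton_of_mem (Set.mem_univ (0 : V))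
  have h2 : ((Set.univ : Set V) \ {0}) = {v : V | v ≠ 0} := by
    ext v; simp
  rw [h2, ← Nat.card_coe_set_eq, ← Nat.card_coe_set_eq, Nat.card_congr (Equiv.Set.univ V)] at h1
  exact h1

/-- **coverage** -/
theorem cov (hL : PrimeOrb L) (hP : IsSyl p P L) :
    Nat.card V - 1 ≤ Nat.card {P : Subgroup (V ≃ₗ[ZMod p] V) // IsSyl p P L} * (Nat.card (fxs P) - 1) := by
  rw [← card_pairs hP, ← card_ne_zero' V]
  exact Nat.card_le_card_of_surjective _ (proj_surjective hL)

/-- coverage, in terms of a lower bound for the normaliser -/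
theorem cov_nml (hL : PrimeOrb L) (hP : IsSyl p P L) :
    (Nat.card V - 1) * Nat.card (nml L P) ≤ Nat.card L * (Nat.card (fxs P) - 1) := by
  have h1 := cov hL hP
  have h2 := card_syl L hP
  calc (Nat.card V - 1) * Nat.card (nml L P)
      ≤ Nat.card {P : Subgroup (V ≃ₗ[ZMod p] V) // IsSyl p P L} * (Nat.card (fxs P) - 1) * Nat.card (nml L P) :=
        Nat.mul_le_mul_right _ h1
    _ = Nat.card {P : Subgroup (V ≃ₗ[ZMod p] V) // IsSyl p P L} * Nat.card (nml L P) * (Nat.card (fxs P) - 1) := by ring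
    _ = _ := by rw [h2]

/-- equality: every vector is fixed by exactly one Sylow subgroup -/
theorem cov_eq_unique (hL : PrimeOrb L) (hP : IsSyl p P L)
    (he : Nat.card L * (Nat.card (fxs P) - 1) ≤ (Nat.card V - 1) * Nat.card (nml L P)) {v : V} (hv : v ≠ 0)
    {Q R : Subgroup (V ≃ₗ[ZMod p] V)} (hQ : IsSyl p Q L) (hR : IsSyl p R L) (h1 : v ∈ fxs Q) (h2 : v ∈ fxs R) :
    Q = R := by
  have hpos : 0 < Nat.card (nml L P) := Nat.card_pos
  have h3 : Nat.card (Pairs L) ≤ Nat.card {v : V // v ≠ 0} := by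
    rw [card_pairs hP, card_ne_zero' V]
    refine Nat.le_of_mul_le_mul_right ?_ hpos
    rw [mul_right_comm, card_syl L hP]
    exact he
  have h4 := (Function.Surjective.bijective_of_nat_card_le (proj_surjective hL) h3).1
  have h5 := @h4 ⟨⟨Q, hQ⟩, ⟨v, h1, hv⟩⟩ ⟨⟨R, hR⟩, ⟨v, h2, hv⟩⟩ rfl
  exact congrArg (fun z : Pairs L => z.1.1) h5

/-- if every vector is fixed by exactly one Sylow subgroup, the fixed spaces form a partition -/
theorem cov_partition (hL : PrimeOrb L) (hP : IsSyl p P L)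
    (hu : ∀ v : V, v ≠ 0 → ∀ Q R : Subgroup (V ≃ₗ[ZMod p] V), IsSyl p Q L → IsSyl p R L → v ∈ fxs Q → v ∈ fxs R → Q = R) :
    Nat.card L * (Nat.card (fxs P) - 1) = (Nat.card V - 1) * Nat.card (nml L P) := by
  have h1 : Function.Bijective (proj L) := by
    refine ⟨?_, proj_surjective hL⟩
    rintro ⟨⟨Q, hQ⟩, ⟨v, h1, hv⟩⟩ ⟨⟨R, hR⟩, ⟨w, h2, hw⟩⟩ h
    have h3 : v = w := congrArg Subtype.val h
    subst h3
    have h4 := hu v hv Q R hQ hR h1 h2
    subst h4
    rfl
  have h2 := Nat.card_congr (Equiv.ofBijective _ h1)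
  rw [card_pairs hP, card_ne_zero' V] at h2
  rw [← h2, ← card_syl L hP]
  ring

end cov

/-! ### fusion and the number of orbits -/

section orb

variable {G L P : Subgroup (V ≃ₗ[ZMod p] V)}

/-- **fusion**: vectors of `C_V(P)` conjugate in `G` are conjugate in `N_G(P)` -/
theorem fusion (hLG : L ≤ G) (hn : ∀ g ∈ G, ∀ l ∈ L, g * l * g⁻¹ ∈ L) (hP : IsSyl p P L) {v w : V}
    (hv : v ∈ fxs P) (hw : w ∈ fxs P) {g : V ≃ₗ[ZMod p] V} (hg : g ∈ G) (hgv : g v = w) :
    ∃ x ∈ nml G P, x v = w := by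
  have h1 : IsSyl p (P.map (MulAut.conj g).toMonoidHom) L := by
    have := hP.map g
    rwa [map_conj_eq (hn g hg)] at this
  have h2 : w ∈ fxs (P.map (MulAut.conj g).toMonoidHom) := by
    rw [← hgv]; exact mem_fxs_map.2 hv
  have h3 : IsSyl p (P.map (MulAut.conj g).toMonoidHom) (stv L w) := h1.mono ((le_stv h1.le).2 h2) stv_le
  have h4 : IsSyl p P (stv L w) := hP.mono ((le_stv hP.le).2 hw) stv_le
  obtain ⟨y, hy, h5⟩ := h3.conj h4
  refine ⟨y * g, ⟨G.mul_mem (hLG hy.1) hg, ?_⟩, ?_⟩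
  · have : (MulAut.conj (y * g)).toMonoidHom = (MulAut.conj y).toMonoidHom.comp (MulAut.conj g).toMonoidHom := by
      ext x; simp
    rw [this, ← Subgroup.map_map, h5]
  · change y (g v) = w
    rw [hgv, hy.2]

/-- `G` acts on the non-zero vectors -/
@[reducible] def actV (G : Subgroup (V ≃ₗ[ZMod p] V)) : MulAction G {v : V // v ≠ 0} where
  smul g v := ⟨(g : V ≃ₗ[ZMod p] V) v.1, fun h => v.2 ((LinearEquiv.map_eq_zero_iff _).1 h)⟩
  one_smul v := Subtype.ext rfl
  mul_smul a b v := Subtype.ext rfl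

theorem nml_fxs {G P : Subgroup (V ≃ₗ[ZMod p] V)} {x : V ≃ₗ[ZMod p] V} (hx : x ∈ nml G P) {v : V} (hv : v ∈ fxs P) :
    x v ∈ fxs P := by
  have h1 := (mem_fxs_map (P := P) (g := x) (v := v)).2 hv
  rwa [hx.2] at h1

/-- `N_G(P)` acts on the non-zero vectors of `C_V(P)` -/
@[reducible] def actC (G P : Subgroup (V ≃ₗ[ZMod p] V)) : MulAction (nml G P) {v : V // v ∈ fxs P ∧ v ≠ 0} where
  smul g v := ⟨(g : V ≃ₗ[ZMod p] V) v.1, nml_fxs g.2 v.2.1, fun h => v.2.2 ((LinearEquiv.map_eq_zero_iff _).1 h)⟩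
  one_smul v := Subtype.ext rfl
  mul_smul a b v := Subtype.ext rfl

/-- the number of orbits of `G` on the non-zero vectors -/
noncomputable def norb (G : Subgroup (V ≃ₗ[ZMod p] V)) : ℕ :=
  letI := actV G
  Nat.card (orbitRel.Quotient G {v : V // v ≠ 0})

/-- `r m = |V| - 1` -/
theorem norb_mul {h m : ℕ} (hh : Half G h) (h0 : 0 < h) (hm : m * h = Nat.card G) :
    norb G * m = Nat.card V - 1 := by
  classical
  letI := actV G
  letI : Fintype {v : V // v ≠ 0} := Fintype.ofFinite _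
  letI : Fintype (orbitRel.Quotient G {v : V // v ≠ 0}) := Fintype.ofFinite _
  letI : ∀ b : {v : V // v ≠ 0}, Fintype (stabilizer G b) := fun b => Fintype.ofFinite _
  have h1 := MulAction.card_eq_sum_card_group_div_card_stabilizer G {v : V // v ≠ 0}
  have h2 : ∀ w : {v : V // v ≠ 0}, Fintype.card (stabilizer G w) = h := by
    intro w
    rw [← Nat.card_eq_fintype_card, ← hh w.1 w.2]
    refine Nat.card_congr (Equiv.subtypeEquivRight fun g => ?_)
    constructor
    · intro hg; exact congrArg Subtype.val hg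
    · intro hg; exact Subtype.ext hg
  simp only [h2] at h1
  rw [Finset.sum_const, Finset.card_univ, smul_eq_mul, ← Nat.card_eq_fintype_card (α := G), ← hm,
    Nat.mul_div_cancel _ h0, ← Nat.card_eq_fintype_card, card_ne_zero' V] at h1
  rw [h1]
  congr 1
  unfold norb
  rw [Nat.card_eq_fintype_card]

/-- the orbits of `N_G(P)` on `C_V(P)` -/
theorem norb_eq (hLG : L ≤ G) (hn : ∀ g ∈ G, ∀ l ∈ L, g * l * g⁻¹ ∈ L) (hL : PrimeOrb L) (hP : IsSyl p P L) :
    letI := actC G P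
    Nat.card (orbitRel.Quotient (nml G P) {v : V // v ∈ fxs P ∧ v ≠ 0}) = norb G := by
  classical
  letI := actV G
  letI := actC G P
  unfold norb
  let φ : {v : V // v ∈ fxs P ∧ v ≠ 0} → {v : V // v ≠ 0} := fun v => ⟨v.1, v.2.2⟩
  have hφ : ∀ a b : {v : V // v ∈ fxs P ∧ v ≠ 0}, (orbitRel (nml G P) {v : V // v ∈ fxs P ∧ v ≠ 0}) a b ↔
      (orbitRel G {v : V // v ≠ 0}) (φ a) (φ b) := by
    intro a b
    rw [orbitRel_apply, orbitRel_apply]
    constructor
    · rintro ⟨x, hx⟩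
      refine ⟨⟨x.1, x.2.1⟩, ?_⟩
      apply Subtype.ext
      have h1 : (x : V ≃ₗ[ZMod p] V) b.1 = a.1 := congrArg Subtype.val hx
      exact h1
    · rintro ⟨x, hx⟩
      have h1 : (x : V ≃ₗ[ZMod p] V) b.1 = a.1 := congrArg Subtype.val hx
      obtain ⟨y, hy, h2⟩ := fusion hLG hn hP b.2.1 a.2.1 x.2 h1
      exact ⟨⟨y, hy⟩, Subtype.ext h2⟩
  refine Nat.card_congr (Equiv.ofBijective
    (Quotient.map' φ (fun a b h => (hφ a b).1 h) :
      orbitRel.Quotient (nml G P) {v : V // v ∈ fxs P ∧ v ≠ 0} → orbitRel.Quotient G {v : V // v ≠ 0}) ⟨?_, ?_⟩)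
  · intro a b
    induction a using Quotient.inductionOn' with
    | h a =>
    induction b using Quotient.inductionOn' with
    | h b =>
    intro h
    exact Quotient.sound' ((hφ a b).2 (Quotient.exact' h))
  · intro b
    induction b using Quotient.inductionOn' with
    | h b =>
    obtain ⟨Q, h1, h2⟩ := hL.exists_syl b.2
    obtain ⟨y, hy, h3⟩ := h1.conj hP
    have h4 : y b.1 ∈ fxs P := by
      rw [← h3]
      exact mem_fxs_map.2 ((le_stv h1.le).1 h2.le)
    refine ⟨Quotient.mk'' ⟨y b.1, h4, fun h => b.2 ((LinearEquiv.map_eq_zero_iff _).1 h)⟩, ?_⟩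
    refine Quotient.sound' ?_
    rw [orbitRel_apply]
    exact ⟨⟨y, hLG hy⟩, rfl⟩

/-- **Burnside's formula** for `N_G(P)` on `C_V(P)` -/
theorem burnside (hLG : L ≤ G) (hn : ∀ g ∈ G, ∀ l ∈ L, g * l * g⁻¹ ∈ L) (hL : PrimeOrb L) (hP : IsSyl p P L) :
    ∑ x : nml G P, (Nat.card (fxs P ⊓ fx (x : V ≃ₗ[ZMod p] V) : Submodule (ZMod p) V) - 1) =
      norb G * Nat.card (nml G P) := by
  classical
  letI := actC G P
  letI : Fintype {v : V // v ∈ fxs P ∧ v ≠ 0} := Fintype.ofFinite _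
  letI : Fintype (orbitRel.Quotient (nml G P) {v : V // v ∈ fxs P ∧ v ≠ 0}) := Fintype.ofFinite _
  letI : ∀ x : nml G P, Fintype (fixedBy {v : V // v ∈ fxs P ∧ v ≠ 0} x) := fun x => Fintype.ofFinite _
  have h1 := MulAction.sum_card_fixedBy_eq_card_orbits_mul_card_group (nml G P) {v : V // v ∈ fxs P ∧ v ≠ 0}
  rw [← norb_eq hLG hn hL hP, Nat.card_eq_fintype_card (α := nml G P), Nat.card_eq_fintype_card, ← h1]
  refine Finset.sum_congr rfl fun x _ => ?_
  rw [← card_nz, ← Nat.card_eq_fintype_card]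
  refine Nat.card_congr
    { toFun := fun v => ⟨⟨v.1, v.2.1.1, v.2.2⟩, Subtype.ext (mem_fx.1 v.2.1.2)⟩
      invFun := fun v => ⟨v.1.1, ⟨v.1.2.1, mem_fx.2 (congrArg Subtype.val v.2)⟩, v.1.2.2⟩
      left_inv := fun _ => rfl
      right_inv := fun _ => rfl }

/-- the elements of `N_G(P)` acting trivially on `C_V(P)` -/
def krn (G P : Subgroup (V ≃ₗ[ZMod p] V)) : Subgroup (V ≃ₗ[ZMod p] V) where
  carrier := {x | x ∈ nml G P ∧ ∀ v ∈ fxs P, x v = v}
  one_mem' := ⟨one_mem _, fun v _ => rfl⟩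
  mul_mem' := fun {a b} ha hb => ⟨mul_mem ha.1 hb.1, fun v hv => by
    change a (b v) = v
    rw [hb.2 v hv, ha.2 v hv]⟩
  inv_mem' := fun {a} ha => ⟨inv_mem ha.1, fun v hv => by
    have h1 : a⁻¹ (a v) = v := by
      change (a⁻¹ * a) v = v
      rw [inv_mul_cancel]; rfl
    rwa [ha.2 v hv] at h1⟩

theorem krn_le : krn G P ≤ nml G P := fun _ h => h.1

theorem card_dvd_or {W : Submodule (ZMod p) V} {x : V ≃ₗ[ZMod p] V} (h : ¬ ∀ v ∈ W, x v = v) :
    p * Nat.card (W ⊓ fx x : Submodule (ZMod p) V) ≤ Nat.card W := by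
  have h1 : W ⊓ fx x < W := by
    refine lt_of_le_of_ne inf_le_left fun he => h fun v hv => ?_
    rw [← he] at hv
    exact mem_fx.1 hv.2
  have h2 := Submodule.finrank_lt_finrank_of_lt h1
  rw [card_eq_pow (p := p), card_eq_pow (p := p) W, ← pow_succ']
  exact Nat.pow_le_pow_right (Fact.out : p.Prime).pos h2

/-- **either `N_G(P)` acts trivially on `C_V(P)` or there are few orbits** -/
theorem orb_dich (hLG : L ≤ G) (hn : ∀ g ∈ G, ∀ l ∈ L, g * l * g⁻¹ ∈ L) (hL : PrimeOrb L) (hP : IsSyl p P L) :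
    norb G = Nat.card (fxs P) - 1 ∨ 2 * norb G + 2 ≤ Nat.card (fxs P) + Nat.card (fxs P) / p := by
  classical
  have hb := burnside hLG hn hL hP
  have hp := (Fact.out : p.Prime).pos
  set N := Nat.card (fxs P) with hN
  have hN1 : 0 < N := Nat.card_pos
  have hX : 0 < Nat.card (nml G P) := Nat.card_pos
  by_cases hall : ∀ x ∈ nml G P, ∀ v ∈ fxs P, x v = v
  · left
    have h1 : ∀ x : nml G P, Nat.card (fxs P ⊓ fx (x : V ≃ₗ[ZMod p] V) : Submodule (ZMod p) V) - 1 = N - 1 := by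
      intro x
      have : fxs P ⊓ fx (x : V ≃ₗ[ZMod p] V) = fxs P := inf_eq_left.2 fun v hv => mem_fx.2 (hall x x.2 v hv)
      rw [this]
    rw [Finset.sum_congr rfl (fun x _ => h1 x), Finset.sum_const, Finset.card_univ, smul_eq_mul,
      ← Nat.card_eq_fintype_card, mul_comm] at hb
    exact (Nat.eq_of_mul_eq_mul_right hX hb).symm
  · right
    push Not at hall
    obtain ⟨x₀, hx₀, v₀, hv₀, hne⟩ := hall
    let f : nml G P → ℕ := fun x => Nat.card (fxs P ⊓ fx (x : V ≃ₗ[ZMod p] V) : Submodule (ZMod p) V) - 1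
    let y₀ : nml G P := ⟨x₀, hx₀⟩
    have hle : ∀ x : nml G P, f x ≤ N - 1 := by
      intro x
      refine Nat.sub_le_sub_right ?_ 1
      exact Nat.card_le_card_of_injective _ (Submodule.inclusion_injective (inf_le_left : fxs P ⊓ fx (x : V ≃ₗ[ZMod p] V) ≤ fxs P))
    have hle' : ∀ x : nml G P, (¬ ∀ v ∈ fxs P, (x : V ≃ₗ[ZMod p] V) v = v) → f x ≤ N / p - 1 := by
      intro x hx
      refine Nat.sub_le_sub_right ?_ 1
      rw [Nat.le_div_iff_mul_le hp, mul_comm]
      exact card_dvd_or hx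
    have hNp : 1 ≤ N / p := by
      rw [Nat.le_div_iff_mul_le hp, one_mul]
      have h1 := card_dvd_or (W := fxs P) (x := x₀) (fun h => hne (h v₀ hv₀))
      have h2 : 0 < Nat.card (fxs P ⊓ fx x₀ : Submodule (ZMod p) V) := Nat.card_pos
      nlinarith
    have hpair : ∀ x : nml G P, f x + f (x * y₀) ≤ (N - 1) + (N / p - 1) := by
      intro x
      by_cases h1 : ∀ v ∈ fxs P, (x : V ≃ₗ[ZMod p] V) v = v
      · have h2 : ¬ ∀ v ∈ fxs P, ((x * y₀ : nml G P) : V ≃ₗ[ZMod p] V) v = v := by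
          intro h2
          apply hne
          have h3 := h2 v₀ hv₀
          have h4 : (x : V ≃ₗ[ZMod p] V) (x₀ v₀) = v₀ := h3
          rw [h1 _ (nml_fxs hx₀ hv₀)] at h4
          exact h4
        exact Nat.add_le_add (hle x) (hle' _ h2)
      · rw [add_comm (N - 1)]
        exact Nat.add_le_add (hle' _ h1) (hle _)
    have hs : ∑ x : nml G P, f (x * y₀) = ∑ x : nml G P, f x :=
      Fintype.sum_equiv (Equiv.mulRight y₀) _ _ (fun x => rfl)
    have h2 : ∑ x : nml G P, (f x + f (x * y₀)) ≤ ∑ _x : nml G P, ((N - 1) + (N / p - 1)) :=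
      Finset.sum_le_sum fun x _ => hpair x
    rw [Finset.sum_add_distrib, hs, Finset.sum_const, Finset.card_univ, smul_eq_mul, ← Nat.card_eq_fintype_card] at h2
    have h3 : ∑ x : nml G P, f x = norb G * Nat.card (nml G P) := hb
    rw [h3] at h2
    have h4 : Nat.card (nml G P) * (2 * norb G) ≤ Nat.card (nml G P) * ((N - 1) + (N / p - 1)) := by
      calc _ = norb G * Nat.card (nml G P) + norb G * Nat.card (nml G P) := by ring
        _ ≤ _ := h2
    have h5 := Nat.le_of_mul_le_mul_left h4 hX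
    omega

/-- if `N_G(P)` acts on `C_V(P)` through a semiregular group of order `z` then `r z = |C_V(P)| - 1` -/
theorem orb_semi (hLG : L ≤ G) (hn : ∀ g ∈ G, ∀ l ∈ L, g * l * g⁻¹ ∈ L) (hL : PrimeOrb L) (hP : IsSyl p P L)
    (hs : ∀ x ∈ nml G P, (∀ v ∈ fxs P, x v = v) ∨ (∀ v ∈ fxs P, x v = v → v = 0)) :
    ∃ z, z * Nat.card (krn G P) = Nat.card (nml G P) ∧ norb G * z = Nat.card (fxs P) - 1 := by
  classical
  have hb := burnside hLG hn hL hP
  set N := Nat.card (fxs P) with hN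
  have hX : 0 < Nat.card (krn G P) := Nat.card_pos
  refine ⟨(krn G P).relIndex (nml G P), relIndex_mul_card krn_le, ?_⟩
  have h1 : ∀ x : nml G P, Nat.card (fxs P ⊓ fx (x : V ≃ₗ[ZMod p] V) : Submodule (ZMod p) V) - 1 =
      if (x : V ≃ₗ[ZMod p] V) ∈ krn G P then N - 1 else 0 := by
    intro x
    split_ifs with h
    · have : fxs P ⊓ fx (x : V ≃ₗ[ZMod p] V) = fxs P := inf_eq_left.2 fun v hv => mem_fx.2 (h.2 v hv)
      rw [this]
    · have h2 : ∀ v ∈ fxs P, (x : V ≃ₗ[ZMod p] V) v = v → v = 0 := by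
        rcases hs x x.2 with h3 | h3
        · exact absurd ⟨x.2, h3⟩ h
        · exact h3
      have : fxs P ⊓ fx (x : V ≃ₗ[ZMod p] V) = ⊥ := by
        rw [eq_bot_iff]
        intro v hv
        exact h2 v hv.1 (mem_fx.1 hv.2)
      rw [this]
      simp
  rw [Finset.sum_congr rfl (fun x _ => h1 x), ← Finset.sum_filter, Finset.sum_const, smul_eq_mul] at hb
  have h2 : (Finset.univ.filter fun x : nml G P => (x : V ≃ₗ[ZMod p] V) ∈ krn G P).card = Nat.card (krn G P) := by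
    rw [← Fintype.card_subtype, ← Nat.card_eq_fintype_card]
    refine Nat.card_congr
      { toFun := fun x => ⟨x.1.1, x.2⟩
        invFun := fun x => ⟨⟨x.1, krn_le x.2⟩, x.2⟩
        left_inv := fun _ => rfl
        right_inv := fun _ => rfl }
  rw [h2, ← relIndex_mul_card (krn_le (G := G) (P := P))] at hb
  have h3 : Nat.card (krn G P) * (N - 1) = Nat.card (krn G P) * (norb G * (krn G P).relIndex (nml G P)) := by
    rw [hb]; ring
  exact (Nat.eq_of_mul_eq_mul_left hX h3).symm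

end orb

end fix

end Cfsg.Agent.H960.HTP
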